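import Groth.Agent.Unr55.Modif.Basic
import Groth.Agent.Cons51.ProperBC0

/-! The modification square equivalence for sheaves of sets. -/

universe u

open CategoryTheory CategoryTheory.Limits AlgebraicGeometry Opposite

set_option autoImplicit false
set_option backward.isDefEq.respectTransparency.types false

namespace Groth.Agent.Unr55.Modif

open Groth.Agent.CohProp4 Groth.Agent.Unr55.EtSh Groth.Agent.An92.EtSets Groth.Agent.Unr55.ShDesc

theorem bijective_stalk_of_isIso {S : Scheme.{u}} {Ω : Type u} [Field Ω] [IsSepClosed Ω]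
    (η : Spec (CommRingCat.of Ω) ⟶ S) {F G : EtDesc.Sh S} (a : F ⟶ G) [IsIso a] :
    Function.Bijective ((stalkSh η).map a) :=
  (CategoryTheory.isIso_iff_bijective _).1 (Functor.map_isIso (stalkSh η) a)

theorem bijective_stalk_comp {T S : Scheme.{u}} (h : T ⟶ S) {Ω : Type u} [Field Ω] [IsSepClosed Ω]
    (ξ : Spec (CommRingCat.of Ω) ⟶ T) {F G : EtDesc.Sh S} (a : F ⟶ G) [IsIso ((EtDesc.pullSh h).map a)] :
    Function.Bijective ((stalkSh (ξ ≫ h)).map a) := by
  rw [← CategoryTheory.isIso_iff_bijective]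
  have : IsIso ((EtDesc.pullSh h ⋙ stalkSh ξ).map a) := Functor.map_isIso (stalkSh ξ) _
  rw [← NatIso.naturality_2 (stalkPullShIso h ξ).symm a]
  infer_instance

variable {X X' Z E U₀ : Scheme.{u}} {f : X' ⟶ X} {i : Z ⟶ X} {j : E ⟶ X'} {g : E ⟶ Z}

theorem isIso_map_leg [IsClosedImmersion i] (w : j ≫ f = g ≫ i) {A : EtDesc.Sh X'} {B : EtDesc.Sh Z}
    (α : (EtDesc.pullSh j).obj A ≅ (EtDesc.pullSh g).obj B) (hbc : IsIso (EtBC.baseChange0Sh f i g j w A)) :
    IsIso ((EtDesc.pullSh i).map (u₁ w α)) := by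
  let v := (EtDesc.pushSh f).map ((EtDesc.adjSh j).unit.app A) ≫ (EtDesc.pushCompSh f j).hom.app _ ≫
    (EtBC.pushCongrSh w).hom.app _ ≫ (EtDesc.pushCompSh i g).inv.app _
  have e : EtBC.baseChange0Sh f i g j w A = (EtDesc.pullSh i).map v ≫
      (EtDesc.adjSh i).counit.app ((EtDesc.pushSh g).obj ((EtDesc.pullSh j).obj A)) :=
    (EtDesc.adjSh i).homEquiv_counit _ _ v
  have : IsIso ((EtDesc.adjSh i).counit.app ((EtDesc.pushSh g).obj ((EtDesc.pullSh j).obj A))) :=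
    An92.EtSets.isIso_counit i _
  have : IsIso ((EtDesc.pullSh i).map v) := by
    rw [e] at hbc
    exact IsIso.of_isIso_comp_right _ ((EtDesc.adjSh i).counit.app ((EtDesc.pushSh g).obj ((EtDesc.pullSh j).obj A)))
  change IsIso ((EtDesc.pullSh i).map (v ≫ (EtDesc.pushSh i).map ((EtDesc.pushSh g).map α.hom)))
  rw [Functor.map_comp]
  infer_instance

theorem isIso_gamma [IsClosedImmersion i] (w : j ≫ f = g ≫ i) {A : EtDesc.Sh X'} {B : EtDesc.Sh Z}
    (α : (EtDesc.pullSh j).obj A ≅ (EtDesc.pullSh g).obj B) (hbc : IsIso (EtBC.baseChange0Sh f i g j w A))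
    {P : EtDesc.Sh X} {π₁ : P ⟶ (EtDesc.pushSh f).obj A} {π₂ : P ⟶ (EtDesc.pushSh i).obj B}
    (sq : IsPullback π₁ π₂ (u₁ w α) (u₂ g B)) :
    IsIso (((EtDesc.adjSh i).homEquiv P B).symm π₂) := by
  have := isIso_map_leg w α hbc
  have := EtBC48.preservesFiniteLimits_pullSh i
  have h2 : IsIso ((EtDesc.pullSh i).map π₂) := (sq.map (EtDesc.pullSh i)).isIso_snd_of_isIso
  have h3 := An92.EtSets.isIso_counit i B
  rw [(EtDesc.adjSh i).homEquiv_counit P B π₂]
  exact IsIso.comp_isIso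

theorem isIso_beta [IsClosedImmersion i] (c : IsPullback j g f i) {A : EtDesc.Sh X'} {B : EtDesc.Sh Z}
    (α : (EtDesc.pullSh j).obj A ≅ (EtDesc.pullSh g).obj B) (hbc : IsIso (EtBC.baseChange0Sh f i g j c.w A))
    (u : U₀ ⟶ X) [IsOpenImmersion u] (hU : Set.range u = (Set.range i)ᶜ) (hf : IsIso (pullback.snd f u))
    {P : EtDesc.Sh X} {π₁ : P ⟶ (EtDesc.pushSh f).obj A} {π₂ : P ⟶ (EtDesc.pushSh i).obj B}
    (sq : IsPullback π₁ π₂ (u₁ c.w α) (u₂ g B)) :
    IsIso (((EtDesc.adjSh f).homEquiv P A).symm π₁) := by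
  have hγ := isIso_gamma c.w α hbc sq
  have hc := compat_transpose c.w α (F := P) (p₁ := π₁) (p₂ := π₂) sq.w
  have hβ := transpose_pl f π₁
  generalize ((EtDesc.adjSh f).homEquiv P A).symm π₁ = β at hc hβ
  generalize ((EtDesc.adjSh i).homEquiv P B).symm π₂ = γ at hc hγ
  have hj : IsIso ((EtDesc.pullSh j).map β) := by
    have : IsIso ((EtDesc.pullSh j).map β ≫ α.hom) := by
      rw [hc]
      exact IsIso.comp_isIso
    exact IsIso.of_isIso_comp_right _ α.hom
  refine An92.EtSets.isIso_of_stalks_sets _ fun K _ _ ξ => ?_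
  by_cases hξ : (ξ ≫ f) default ∈ Set.range i
  · obtain ⟨ζ, hζ⟩ := Unr55.EtSh.exists_point_lift i (ξ ≫ f) hξ
    obtain ⟨e, rfl⟩ : ∃ e, e ≫ j = ξ := ⟨c.lift ξ ζ hζ.symm, c.lift_fst _ _ _⟩
    exact bijective_stalk_comp j e β
  · have hξu : f (ξ default) ∈ Set.range u := by
      rw [hU]
      exact hξ
    exact ⟨stalk_injective c.w α u hU hf sq ξ hξu β hβ, stalk_surjective c.w α u hU hf sq ξ hξu β hβ⟩

/-- Isomorphisms are detected on the two pieces. -/
theorem isIso_of_pieces [IsClosedImmersion i] (u : U₀ ⟶ X) [IsOpenImmersion u] (hU : Set.range u = (Set.range i)ᶜ)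
    (hf : IsIso (pullback.snd f u)) {F G : EtDesc.Sh X} (θ : F ⟶ G) (h₁ : IsIso ((EtDesc.pullSh f).map θ))
    (h₂ : IsIso ((EtDesc.pullSh i).map θ)) : IsIso θ := by
  refine An92.EtSets.isIso_of_stalks_sets _ fun K _ _ η => ?_
  by_cases hη : η default ∈ Set.range i
  · obtain ⟨ζ, rfl⟩ := Unr55.EtSh.exists_point_lift i η hη
    exact bijective_stalk_comp i ζ θ
  · have hl : Set.range η ⊆ Set.range u := by
      rintro _ ⟨a, rfl⟩
      rw [hU, Unr55.EtSh.default_eq a]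
      exact hη
    let l := IsOpenImmersion.lift u η hl
    obtain ⟨ξ, rfl⟩ : ∃ ξ, ξ ≫ f = η := ⟨l ≫ inv (pullback.snd f u) ≫ pullback.fst f u, by
      rw [Category.assoc, Category.assoc, pullback.condition, IsIso.inv_hom_id_assoc, IsOpenImmersion.lift_fac]⟩
    exact bijective_stalk_comp f ξ θ

variable [IsClosedImmersion i] [IsProper f]

theorem isIso_bc (c : IsPullback j g f i) (A : EtDesc.Sh X') : IsIso (EtBC.baseChange0Sh f i g j c.w A) :=
  EtBC48.baseChange0Sh_isIso_of_ab f i g j c.w (fun M => Cons51.isIso_baseChange0_proper f i g j c M) A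

/-- Essential surjectivity. -/
theorem exists_glue (c : IsPullback j g f i) (u : U₀ ⟶ X) [IsOpenImmersion u] (hU : Set.range u = (Set.range i)ᶜ)
    (hf : IsIso (pullback.snd f u)) {A : EtDesc.Sh X'} {B : EtDesc.Sh Z}
    (α : (EtDesc.pullSh j).obj A ≅ (EtDesc.pullSh g).obj B) :
    ∃ (F : EtDesc.Sh X) (β : (EtDesc.pullSh f).obj F ≅ A) (γ : (EtDesc.pullSh i).obj F ≅ B),
      (EtDesc.pullSh j).map β.hom ≫ α.hom = (can f i j g c.w F).hom ≫ (EtDesc.pullSh g).map γ.hom := by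
  let sq := IsPullback.of_hasPullback (u₁ c.w α) (u₂ g B)
  have := isIso_beta c α (isIso_bc c A) u hU hf sq
  have := isIso_gamma c.w α (isIso_bc c A) sq
  exact ⟨_, asIso (((EtDesc.adjSh f).homEquiv _ A).symm (pullback.fst (u₁ c.w α) (u₂ g B))),
    asIso (((EtDesc.adjSh i).homEquiv _ B).symm (pullback.snd (u₁ c.w α) (u₂ g B))), compat_transpose c.w α sq.w⟩

/-- Full faithfulness. -/
theorem existsUnique_glue (c : IsPullback j g f i) (u : U₀ ⟶ X) [IsOpenImmersion u]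
    (hU : Set.range u = (Set.range i)ᶜ) (hf : IsIso (pullback.snd f u)) {F G : EtDesc.Sh X}
    (a : (EtDesc.pullSh f).obj F ⟶ (EtDesc.pullSh f).obj G) (b : (EtDesc.pullSh i).obj F ⟶ (EtDesc.pullSh i).obj G)
    (hab : (EtDesc.pullSh j).map a ≫ (can f i j g c.w G).hom = (can f i j g c.w F).hom ≫ (EtDesc.pullSh g).map b) :
    ∃! φ : F ⟶ G, (EtDesc.pullSh f).map φ = a ∧ (EtDesc.pullSh i).map φ = b := by
  let α := can f i j g c.w G
  let sq := IsPullback.of_hasPullback (u₁ c.w α) (u₂ g ((EtDesc.pullSh i).obj G))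
  let P := pullback (u₁ c.w α) (u₂ g ((EtDesc.pullSh i).obj G))
  have hη := compat_of_maps c.w α G (𝟙 _) (𝟙 _) (by
    rw [CategoryTheory.Functor.map_id, CategoryTheory.Functor.map_id, Category.id_comp, Category.comp_id])
  let θ : G ⟶ P := sq.lift _ _ hη
  have hθ₁ : θ ≫ pullback.fst _ _ = (EtDesc.adjSh f).homEquiv _ _ (𝟙 _) := sq.lift_fst _ _ _
  have hθ₂ : θ ≫ pullback.snd _ _ = (EtDesc.adjSh i).homEquiv _ _ (𝟙 _) := sq.lift_snd _ _ _
  have := isIso_beta c α (isIso_bc c _) u hU hf sq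
  have := isIso_gamma c.w α (isIso_bc c _) sq
  have hk₁ : (EtDesc.pullSh f).map θ ≫ ((EtDesc.adjSh f).homEquiv P _).symm (pullback.fst _ _) = 𝟙 _ := by
    rw [← Adjunction.homEquiv_naturality_left_symm, hθ₁, Equiv.symm_apply_apply]
  have hk₂ : (EtDesc.pullSh i).map θ ≫ ((EtDesc.adjSh i).homEquiv P _).symm (pullback.snd _ _) = 𝟙 _ := by
    rw [← Adjunction.homEquiv_naturality_left_symm, hθ₂, Equiv.symm_apply_apply]
  have : IsIso θ := isIso_of_pieces u hU hf θ (IsIso.of_isIso_fac_right (h := 𝟙 _) hk₁)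
    (IsIso.of_isIso_fac_right (h := 𝟙 _) hk₂)
  let ψ : F ⟶ P := sq.lift _ _ (compat_of_maps c.w α F a b hab)
  have key : ∀ φ : F ⟶ G, ((EtDesc.pullSh f).map φ = a ∧ (EtDesc.pullSh i).map φ = b) ↔ φ ≫ θ = ψ := fun φ => by
    have e₁ : (φ ≫ θ) ≫ pullback.fst _ _ = (EtDesc.adjSh f).homEquiv _ _ ((EtDesc.pullSh f).map φ) := by
      rw [Category.assoc, hθ₁, ← Adjunction.homEquiv_naturality_left, Category.comp_id]
    have e₂ : (φ ≫ θ) ≫ pullback.snd _ _ = (EtDesc.adjSh i).homEquiv _ _ ((EtDesc.pullSh i).map φ) := by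
      rw [Category.assoc, hθ₂, ← Adjunction.homEquiv_naturality_left, Category.comp_id]
    constructor
    · rintro ⟨h₁, h₂⟩
      exact sq.hom_ext (e₁.trans ((congrArg _ h₁).trans (sq.lift_fst _ _ _).symm))
        (e₂.trans ((congrArg _ h₂).trans (sq.lift_snd _ _ _).symm))
    · intro h
      rw [h] at e₁ e₂
      exact ⟨((EtDesc.adjSh f).homEquiv _ _).injective (e₁.symm.trans (sq.lift_fst _ _ _)),
        ((EtDesc.adjSh i).homEquiv _ _).injective (e₂.symm.trans (sq.lift_snd _ _ _))⟩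
  refine ⟨ψ ≫ inv θ, (key _).2 (by rw [Category.assoc, IsIso.inv_hom_id, Category.comp_id]), fun φ hφ => ?_⟩
  rw [← (key φ).1 hφ, Category.assoc, IsIso.hom_inv_id, Category.comp_id]

end Groth.Agent.Unr55.Modif
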