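import Groth.Agent.Unr55.ShDesc.Eff
import Groth.Agent.EtBC48.Sets
import Groth.Agent.An92.EtSets.Dense
import Groth.Agent.Unr55.Et.ClosedPush
import Mathlib.CategoryTheory.Limits.Types.Pullbacks
import Mathlib.CategoryTheory.Sites.Limits

/-! Sheaves of sets on a modification square. -/

universe u

open CategoryTheory CategoryTheory.Limits AlgebraicGeometry Opposite

set_option autoImplicit false
set_option backward.isDefEq.respectTransparency.types false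

namespace Groth.Agent.Unr55.Modif

open Groth.Agent.CohProp4 Groth.Agent.Unr55.EtSh Groth.Agent.An92.EtSets Groth.Agent.Unr55.ShDesc

theorem eq_over_open {X X' U T : Scheme.{u}} (f : X' ⟶ X) (u : U ⟶ X) [IsOpenImmersion u]
    (hf : IsIso (pullback.snd f u)) (p q : T ⟶ X') (h : p ≫ f = q ≫ f)
    (hp : Set.range (p ≫ f) ⊆ Set.range u) : p = q := by
  let l := IsOpenImmersion.lift u (p ≫ f) hp
  have hl : l ≫ u = p ≫ f := IsOpenImmersion.lift_fac _ _ _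
  let p' : T ⟶ pullback f u := pullback.lift p l hl.symm
  let q' : T ⟶ pullback f u := pullback.lift q l (h.symm.trans hl.symm)
  have e : p' = q' := (cancel_mono (pullback.snd f u)).1
    ((pullback.lift_snd _ _ _).trans (pullback.lift_snd _ _ _).symm)
  exact (pullback.lift_fst _ _ _).symm.trans ((congrArg (· ≫ pullback.fst f u) e).trans (pullback.lift_fst _ _ _))

theorem subsingleton_sect {S : Scheme.{u}} (F : EtDesc.Sh S) (W : S.Etale) [IsEmpty W.left]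
    (x y : EtDesc.sect F W) : x = y := by
  obtain ⟨hu⟩ := unique_sections_of_isEmpty F W
  exact (hu.uniq x).trans (hu.uniq y).symm

theorem chase {S : Scheme.{u}} {A B C : EtDesc.Sh S} {i : A ≅ B} {j : C ≅ B} {W : S.Etale} {x : EtDesc.sect A W}
    {y : EtDesc.sect C W} {z : EtDesc.sect B W} (h₁ : i.hom.hom.app (op W) x = z) (h₂ : j.hom.hom.app (op W) y = z) :
    (i ≪≫ j.symm).hom.hom.app (op W) x = y :=
  trans_symm_apply i j W x y (h₁.trans h₂.symm)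

variable {X X' Z E : Scheme.{u}} {f : X' ⟶ X} {i : Z ⟶ X} {j : E ⟶ X'} {g : E ⟶ Z}

/-- Comparison of two factorisations through different schemes. -/
theorem via_symm_pl' {T S₁ S₂ X : Scheme.{u}} (g₁ : T ⟶ S₁) (a₁ : S₁ ⟶ X) (g₂ : T ⟶ S₂) (a₂ : S₂ ⟶ X) (b : T ⟶ X)
    (w₁ : g₁ ≫ a₁ = b) (w₂ : g₂ ≫ a₂ = b) (F : EtDesc.Sh X) {U : X.Etale} (σ : EtDesc.sect F U) {W : T.Etale}
    (e₁ : W ⟶ (EtCoh.bc g₁).obj ((EtCoh.bc a₁).obj U)) (e₂ : W ⟶ (EtCoh.bc g₂).obj ((EtCoh.bc a₂).obj U))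
    (h : Eff.pr₂ a₁ g₁ e₁ = Eff.pr₂ a₂ g₂ e₂) :
    (EtDesc.pullVia g₁ a₁ b w₁ F ≪≫ (EtDesc.pullVia g₂ a₂ b w₂ F).symm).hom.hom.app (op W)
        (((EtDesc.pullSh g₁).obj ((EtDesc.pullSh a₁).obj F)).obj.map e₁.op (pl g₁ _ (pl a₁ F σ))) =
      ((EtDesc.pullSh g₂).obj ((EtDesc.pullSh a₂).obj F)).obj.map e₂.op (pl g₂ _ (pl a₂ F σ)) := by
  obtain ⟨d, hd⟩ : ∃ d : W ⟶ (EtCoh.bc b).obj U, d.left ≫ pullback.fst U.hom b = Eff.pr₂ a₁ g₁ e₁ :=
    ⟨MorphismProperty.Over.homMk (pullback.lift (Eff.pr₂ a₁ g₁ e₁) W.hom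
      ((Eff.exists_lift_bc a₁ g₁ e₁).trans (congrArg (W.hom ≫ ·) w₁)))
      (pullback.lift_snd _ _ _) trivial, pullback.lift_fst _ _ _⟩
  exact chase (pullVia_pl g₁ a₁ b w₁ F U σ e₁ d hd.symm)
    (pullVia_pl g₂ a₂ b w₂ F U σ e₂ d (h.symm.trans hd.symm))

variable (f i j g) in
/-- The canonical identification of the two inverse images. -/
noncomputable def can (w : j ≫ f = g ≫ i) (F : EtDesc.Sh X) :
    (EtDesc.pullSh j).obj ((EtDesc.pullSh f).obj F) ≅ (EtDesc.pullSh g).obj ((EtDesc.pullSh i).obj F) :=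
  EtDesc.pullVia j f (j ≫ f) rfl F ≪≫ (EtDesc.pullVia g i (j ≫ f) w.symm F).symm

theorem can_eq (w : j ≫ f = g ≫ i) (F : EtDesc.Sh X) : can f i j g w F =
    EtDesc.pullVia j f (j ≫ f) rfl F ≪≫ (EtDesc.pullVia g i (j ≫ f) w.symm F).symm := rfl

theorem can_pl (w : j ≫ f = g ≫ i) (F : EtDesc.Sh X) {U : X.Etale} (σ : EtDesc.sect F U) {W : E.Etale}
    (e₁ : W ⟶ (EtCoh.bc j).obj ((EtCoh.bc f).obj U)) (e₂ : W ⟶ (EtCoh.bc g).obj ((EtCoh.bc i).obj U))
    (h : Eff.pr₂ f j e₁ = Eff.pr₂ i g e₂) :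
    (can f i j g w F).hom.hom.app (op W)
        (((EtDesc.pullSh j).obj ((EtDesc.pullSh f).obj F)).obj.map e₁.op (pl j _ (pl f F σ))) =
      ((EtDesc.pullSh g).obj ((EtDesc.pullSh i).obj F)).obj.map e₂.op (pl g _ (pl i F σ)) := by
  have h' := via_symm_pl' j f g i (j ≫ f) rfl w.symm F σ e₁ e₂ h
  exact (congrArg (fun k : (EtDesc.pullSh j).obj ((EtDesc.pullSh f).obj F) ≅
      (EtDesc.pullSh g).obj ((EtDesc.pullSh i).obj F) => k.hom.hom.app (op W)
    (((EtDesc.pullSh j).obj ((EtDesc.pullSh f).obj F)).obj.map e₁.op (pl j _ (pl f F σ)))) (can_eq w F)).trans h'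

variable (w : j ≫ f = g ≫ i) {A : EtDesc.Sh X'} {B : EtDesc.Sh Z}
  (α : (EtDesc.pullSh j).obj A ≅ (EtDesc.pullSh g).obj B)

/-- First leg. -/
noncomputable def u₁ : (EtDesc.pushSh f).obj A ⟶ (EtDesc.pushSh i).obj ((EtDesc.pushSh g).obj ((EtDesc.pullSh g).obj B)) :=
  ((EtDesc.pushSh f).map ((EtDesc.adjSh j).unit.app A) ≫ (EtDesc.pushCompSh f j).hom.app _ ≫
    (EtBC.pushCongrSh w).hom.app _ ≫ (EtDesc.pushCompSh i g).inv.app _) ≫
    (EtDesc.pushSh i).map ((EtDesc.pushSh g).map α.hom)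

/-- Second leg. -/
noncomputable def u₂ (g : E ⟶ Z) (B : EtDesc.Sh Z) : (EtDesc.pushSh i).obj B ⟶
    (EtDesc.pushSh i).obj ((EtDesc.pushSh g).obj ((EtDesc.pullSh g).obj B)) :=
  (EtDesc.pushSh i).map ((EtDesc.adjSh g).unit.app B)

theorem u₁_app (U : X.Etale) (σ : EtDesc.sect ((EtDesc.pushSh f).obj A) U) :
    (u₁ w α).hom.app (op U) σ = α.hom.hom.app (op ((EtCoh.bc g).obj ((EtCoh.bc i).obj U)))
      (((EtDesc.pullSh j).obj A).obj.map (bcSquare f i g j w U).op (pl j A (U := (EtCoh.bc f).obj U) σ)) := by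
  refine congrArg (α.hom.hom.app (op ((EtCoh.bc g).obj ((EtCoh.bc i).obj U)))) ?_
  simp only [bcSquare, op_comp, Functor.map_comp]
  rfl

theorem u₂_app (U : X.Etale) (σ : EtDesc.sect ((EtDesc.pushSh i).obj B) U) :
    (u₂ (i := i) g B).hom.app (op U) σ = pl g B (U := (EtCoh.bc i).obj U) σ := rfl

/-- Compatibility of a pair of maps, on sections. -/
def Compat {F : EtDesc.Sh X} (p₁ : F ⟶ (EtDesc.pushSh f).obj A) (p₂ : F ⟶ (EtDesc.pushSh i).obj B) : Prop :=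
  p₁ ≫ u₁ w α = p₂ ≫ u₂ g B

theorem compat_apply {F : EtDesc.Sh X} {p₁ : F ⟶ (EtDesc.pushSh f).obj A} {p₂ : F ⟶ (EtDesc.pushSh i).obj B}
    (h : Compat w α p₁ p₂) (U : X.Etale) (τ : EtDesc.sect F U) :
    α.hom.hom.app (op ((EtCoh.bc g).obj ((EtCoh.bc i).obj U))) (((EtDesc.pullSh j).obj A).obj.map
        (bcSquare f i g j w U).op (pl j A (U := (EtCoh.bc f).obj U) (p₁.hom.app (op U) τ))) =
      pl g B (U := (EtCoh.bc i).obj U) (p₂.hom.app (op U) τ) :=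
  (u₁_app w α U _).symm.trans (app_square h U τ)

theorem exists_inv_square (U : X.Etale) : ∃ e : (EtCoh.bc j).obj ((EtCoh.bc f).obj U) ⟶ (EtCoh.bc g).obj ((EtCoh.bc i).obj U),
    Eff.pr₂ f j (𝟙 _) = Eff.pr₂ i g e ∧ e ≫ bcSquare f i g j w U = 𝟙 _ := by
  obtain ⟨e, he⟩ := Eff.exists_lift i g (U := U) (W := (EtCoh.bc j).obj ((EtCoh.bc f).obj U)) (Eff.pr₂ f j (𝟙 _))
    ((Eff.exists_lift_bc f j (𝟙 _)).trans (congrArg (_ ≫ ·) w))
  refine ⟨e, he.symm, Eff.ext₂ f j ((Eff.pr₂_comp f j _ _).trans (Eq.trans ?_ he))⟩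
  exact congrArg (e.left ≫ ·) ((Category.assoc _ _ _).trans (bcSquare_fst f i g j w U))

theorem compat_transpose_pl {F : EtDesc.Sh X} {p₁ : F ⟶ (EtDesc.pushSh f).obj A}
    {p₂ : F ⟶ (EtDesc.pushSh i).obj B} (h : Compat w α p₁ p₂)
    (β : (EtDesc.pullSh f).obj F ⟶ A) (γ : (EtDesc.pullSh i).obj F ⟶ B)
    (hβ : ∀ U τ, β.hom.app (op ((EtCoh.bc f).obj U)) (pl f F τ) = p₁.hom.app (op U) τ)
    (hγ : ∀ U τ, γ.hom.app (op ((EtCoh.bc i).obj U)) (pl i F τ) = p₂.hom.app (op U) τ) (U : X.Etale)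
    (τ : EtDesc.sect F U) (e : (EtCoh.bc j).obj ((EtCoh.bc f).obj U) ⟶ (EtCoh.bc g).obj ((EtCoh.bc i).obj U))
    (he : Eff.pr₂ f j (𝟙 _) = Eff.pr₂ i g e) (hes : e ≫ bcSquare f i g j w U = 𝟙 _) :
    ((EtDesc.pullSh j).map β ≫ α.hom).hom.app (op ((EtCoh.bc j).obj ((EtCoh.bc f).obj U))) (pl j _ (pl f F τ)) =
      ((can f i j g w F).hom ≫ (EtDesc.pullSh g).map γ).hom.app (op ((EtCoh.bc j).obj ((EtCoh.bc f).obj U)))
        (pl j _ (pl f F τ)) := by
  refine Eff.comp_apply_eq ((pl_app j β (pl f F τ)).trans (congrArg (pl j A) (hβ U τ))) ?_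
    ((congrArg _ (Eff.map_self _ _ (pl j _ (pl f F τ))).symm).trans (can_pl w F τ _ e he))
    ((pullMap_pl g γ e (pl i F τ)).trans
      (congrArg (fun z => ((EtDesc.pullSh g).obj B).obj.map e.op (pl g B z)) (hγ U τ)))
  refine Eq.trans ?_ (congrArg (((EtDesc.pullSh g).obj B).obj.map e.op) (compat_apply w α h U τ))
  refine Eq.trans ?_ (NatTrans.naturality_apply α.hom.hom e.op _)
  exact congrArg _ ((Eff.map_self _ _ _).symm.trans
    ((congrArg (fun k => ((EtDesc.pullSh j).obj A).obj.map (Quiver.Hom.op k) _) hes.symm).trans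
      (Eff.map_map' _ _ _ _).symm))

theorem transpose_pl {S T : Scheme.{u}} (r : S ⟶ T) {F : EtDesc.Sh T} {G : EtDesc.Sh S}
    (p : F ⟶ (EtDesc.pushSh r).obj G) (U : T.Etale) (τ : EtDesc.sect F U) :
    (((EtDesc.adjSh r).homEquiv F G).symm p).hom.app (op ((EtCoh.bc r).obj U)) (pl r F τ) = p.hom.app (op U) τ :=
  congrArg (fun v : F ⟶ (EtDesc.pushSh r).obj G => v.hom.app (op U) τ)
    ((((EtDesc.adjSh r).homEquiv_unit F G _).symm).trans (Equiv.apply_symm_apply _ _))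

/-- The transposes are compatible. -/
theorem compat_transpose {F : EtDesc.Sh X} {p₁ : F ⟶ (EtDesc.pushSh f).obj A}
    {p₂ : F ⟶ (EtDesc.pushSh i).obj B} (h : Compat w α p₁ p₂) :
    (EtDesc.pullSh j).map (((EtDesc.adjSh f).homEquiv F A).symm p₁) ≫ α.hom =
      (can f i j g w F).hom ≫ (EtDesc.pullSh g).map (((EtDesc.adjSh i).homEquiv F B).symm p₂) :=
  Eff.hom_ext_pl₂ f j fun U τ => (exists_inv_square w U).elim fun e he =>
    compat_transpose_pl w α h _ _ (transpose_pl f p₁) (transpose_pl i p₂) U τ e he.1 he.2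

theorem compat_of_maps (F : EtDesc.Sh X) (a : (EtDesc.pullSh f).obj F ⟶ A) (b : (EtDesc.pullSh i).obj F ⟶ B)
    (hab : (EtDesc.pullSh j).map a ≫ α.hom = (can f i j g w F).hom ≫ (EtDesc.pullSh g).map b) :
    Compat w α ((EtDesc.adjSh f).homEquiv _ _ a) ((EtDesc.adjSh i).homEquiv _ _ b) := by
  rw [Adjunction.homEquiv_unit, Adjunction.homEquiv_unit]
  ext U τ
  obtain ⟨U⟩ := U
  refine (u₁_app w α U _).trans ?_
  change α.hom.hom.app _ (((EtDesc.pullSh j).obj A).obj.map _ (pl j A (a.hom.app _ (pl f F τ)))) =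
    pl g B (b.hom.app _ (pl i F τ))
  rw [← pullMap_pl j a]
  refine (app_square hab _ _).trans ?_
  refine (congrArg (fun z => ((EtDesc.pullSh g).map b).hom.app _ z)
    ((can_pl w F τ (bcSquare f i g j w U) (𝟙 _) ?_).trans (Eff.map_self _ _ _))).trans (pl_app g b _)
  exact ((Category.assoc _ _ _).trans (bcSquare_fst f i g j w U)).trans (Eff.pr₂_id i g).symm

section Sq

variable {U₀ : Scheme.{u}} (u : U₀ ⟶ X) [IsOpenImmersion u] (hU : Set.range u = (Set.range i)ᶜ)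
  (hf : IsIso (pullback.snd f u))

include hU in
theorem isEmpty_bc (V : X.Etale) (hV : ∀ x : V.left, V.hom x ∈ Set.range u) : IsEmpty ((EtCoh.bc i).obj V).left := by
  refine isEmpty_bc_of_disjoint i (Set.disjoint_left.2 ?_)
  rintro x ⟨y, rfl⟩ hx
  have hy := hV y
  rw [hU] at hy
  exact hy hx

include hf in
/-- An etale scheme over the isomorphism locus comes from the base. -/
theorem exists_base (W : X'.Etale) (hW : ∀ y : W.left, f (W.hom y) ∈ Set.range u) :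
    ∃ (V : X.Etale) (e : V.left = W.left) (a : W ⟶ (EtCoh.bc f).obj V) (k : (EtCoh.bc f).obj V ⟶ W),
      (∀ x : V.left, V.hom x ∈ Set.range u) ∧ V.hom = eqToHom e ≫ W.hom ≫ f ∧
      a ≫ k = 𝟙 W ∧ a.left ≫ pullback.fst V.hom f = eqToHom e.symm ∧
      k.left = pullback.fst V.hom f ≫ eqToHom e := by
  have hl : Set.range (W.hom ≫ f) ⊆ Set.range u := by
    rintro _ ⟨y, rfl⟩; exact hW y
  let m : W.left ⟶ pullback f u := pullback.lift W.hom (IsOpenImmersion.lift u (W.hom ≫ f) hl)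
    (IsOpenImmersion.lift_fac _ _ _).symm
  have hm : m ≫ pullback.fst f u = W.hom := pullback.lift_fst _ _ _
  have : Etale W.hom := W.prop
  have : Etale (m ≫ pullback.fst f u) := hm.symm ▸ (inferInstance : Etale W.hom)
  have : Etale m := Etale.of_comp m (pullback.fst f u)
  have : Etale (W.hom ≫ f) := by
    rw [← hm, Category.assoc, pullback.condition]
    infer_instance
  let V : X.Etale := Scheme.Etale.mk (W.hom ≫ f)
  have hk : pullback.fst V.hom f ≫ W.hom = pullback.snd V.hom f := by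
    refine eq_over_open f u hf _ _ ((Category.assoc _ _ _).trans pullback.condition) ?_
    rintro _ ⟨z, rfl⟩
    exact hW _
  refine ⟨V, rfl, MorphismProperty.Over.homMk (pullback.lift (𝟙 _) W.hom (Category.id_comp _))
    (pullback.lift_snd _ _ _) trivial, MorphismProperty.Over.homMk (pullback.fst V.hom f) hk trivial,
    fun x => hW x, (Category.id_comp _).symm, MorphismProperty.Over.Hom.ext (pullback.lift_fst _ _ _),
    pullback.lift_fst _ _ _, (Category.comp_id _).symm⟩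

variable {P : EtDesc.Sh X} {π₁ : P ⟶ (EtDesc.pushSh f).obj A} {π₂ : P ⟶ (EtDesc.pushSh i).obj B}
  (sq : IsPullback π₁ π₂ (u₁ w α) (u₂ g B))

include hU sq in
theorem exists_sect (V : X.Etale) (hV : ∀ x : V.left, V.hom x ∈ Set.range u)
    (σ : EtDesc.sect ((EtDesc.pushSh f).obj A) V) : ∃ τ, π₁.hom.app (op V) τ = σ := by
  have : IsEmpty ((EtCoh.bc g).obj ((EtCoh.bc i).obj V)).left :=
    ⟨fun z => (isEmpty_bc u hU V hV).false (pullback.fst ((EtCoh.bc i).obj V).hom g z : ((EtCoh.bc i).obj V).left)⟩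
  let ev := sheafToPresheaf X.smallEtaleTopology (Type (u + 1)) ⋙ (evaluation _ _).obj (op V)
  obtain ⟨hu⟩ := @unique_sections_of_isEmpty Z B ((EtCoh.bc i).obj V) (isEmpty_bc u hU V hV)
  obtain ⟨τ, h1, -⟩ := Types.exists_of_isPullback (sq.map ev) σ hu.default
    (@subsingleton_sect E _ ((EtCoh.bc g).obj ((EtCoh.bc i).obj V)) ‹_› _ _)
  exact ⟨τ, h1⟩

include hU sq in
theorem sect_eq (V : X.Etale) (hV : ∀ x : V.left, V.hom x ∈ Set.range u) (τ τ' : EtDesc.sect P V)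
    (h : π₁.hom.app (op V) τ = π₁.hom.app (op V) τ') : τ = τ' := by
  have := isEmpty_bc u hU V hV
  let ev := sheafToPresheaf X.smallEtaleTopology (Type (u + 1)) ⋙ (evaluation _ _).obj (op V)
  exact Types.ext_of_isPullback (sq.map ev) h (@subsingleton_sect Z B _ ‹_› _ _)

theorem exists_shrink {Ω : Type u} [Field Ω] [IsSepClosed Ω] (ξ : Spec (CommRingCat.of Ω) ⟶ X') {W : X'.Etale}
    (t : Pt ξ W) (hξ : f (ξ default) ∈ Set.range u) :
    ∃ (W₀ : X'.Etale) (r : W₀ ⟶ W) (t₀ : Pt ξ W₀), (Scheme.pointSmallEtale ξ).fiber.map r t₀ = t ∧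
      ∀ y : W₀.left, f (W₀.hom y) ∈ Set.range u := by
  let O : W.left.Opens := (W.hom ≫ f) ⁻¹ᵁ u.opensRange
  have ht : hom ξ t default ∈ O := by
    have h : hom ξ t ≫ W.hom = ξ := Over.w t
    change f (W.hom (hom ξ t default)) ∈ Set.range u
    rwa [← Scheme.Hom.comp_apply (hom ξ t), h]
  exact ⟨_, openSubι W O, ptOpen O t ht, map_ptOpen O t ht, fun y => (O.range_ι.le ⟨y, rfl⟩ : O.ι y ∈ O)⟩

include hU hf sq in
theorem stalk_surjective {Ω : Type u} [Field Ω] [IsSepClosed Ω] (ξ : Spec (CommRingCat.of Ω) ⟶ X')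
    (hξ : f (ξ default) ∈ Set.range u) (β : (EtDesc.pullSh f).obj P ⟶ A)
    (hβ : ∀ U τ, β.hom.app (op ((EtCoh.bc f).obj U)) (pl f P τ) = π₁.hom.app (op U) τ) :
    Function.Surjective ((stalkSh ξ).map β) := by
  intro c
  obtain ⟨W, t, s, rfl⟩ := exists_gs ξ A c
  obtain ⟨W₀, r, t₀, ht₀, hW₀⟩ := exists_shrink u ξ t hξ
  obtain ⟨V, e, a, k, hV, -, hak, -, -⟩ := exists_base u hf W₀ hW₀
  obtain ⟨τ, hτ⟩ := exists_sect w α u hU sq V hV (A.obj.map k.op (A.obj.map r.op s))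
  refine ⟨gs ξ _ t₀ (((EtDesc.pullSh f).obj P).obj.map a.op (pl f P τ)), ?_⟩
  rw [gs_natural, NatTrans.naturality_apply, hβ, hτ, Eff.map_map', hak, Eff.map_self, gs_map, ht₀]

include hU hf sq in
theorem stalk_injective {Ω : Type u} [Field Ω] [IsSepClosed Ω] (ξ : Spec (CommRingCat.of Ω) ⟶ X')
    (hξ : f (ξ default) ∈ Set.range u) (β : (EtDesc.pullSh f).obj P ⟶ A)
    (hβ : ∀ U τ, β.hom.app (op ((EtCoh.bc f).obj U)) (pl f P τ) = π₁.hom.app (op U) τ) :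
    Function.Injective ((stalkSh ξ).map β) := by
  intro c c' h
  obtain ⟨U₁, t₁, τ₁, rfl⟩ := exists_gs_pl f ξ P c
  obtain ⟨U₂, t₂, τ₂, rfl⟩ := exists_gs_pl f ξ P c'
  rw [gs_natural, gs_natural, hβ, hβ] at h
  rw [gs_pl_eq_iff]
  obtain ⟨W, a, b, t, ha, hb, hab⟩ := exists_of_gs_eq ξ A _ _ _ _ h
  obtain ⟨W₀, r, t₀, ht₀, hW₀⟩ := exists_shrink u ξ t hξ
  obtain ⟨V, e, a₀, k, hV, hVh, hak, hafst, hk⟩ := exists_base u hf W₀ hW₀
  have push : ∀ {U₁ : X.Etale} (c : W₀ ⟶ (EtCoh.bc f).obj U₁), ∃ c' : V ⟶ U₁,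
      c'.left = eqToHom e ≫ c.left ≫ pullback.fst U₁.hom f ∧ (EtCoh.bc f).map c' = k ≫ c := fun {U₁} c => by
    refine ⟨MorphismProperty.Over.homMk (eqToHom e ≫ c.left ≫ pullback.fst U₁.hom f) ?_ trivial, rfl, ?_⟩
    · rw [hVh]
      refine (Category.assoc _ _ _).trans (congrArg (eqToHom e ≫ ·) ?_)
      refine (Category.assoc _ _ _).trans ((congrArg (c.left ≫ ·) pullback.condition).trans ?_)
      exact (Category.assoc _ _ _).symm.trans (congrArg (· ≫ f) (Over.w c.hom))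
    · refine ShDesc.bc_hom_ext f _ _ ((CohProp4.bc_map_fst f _).trans ?_)
      change _ = (k.left ≫ c.left) ≫ _
      rw [hk]
      exact ((Category.assoc _ _ _).trans (Category.assoc _ _ _)).symm
  obtain ⟨a', ha', hka⟩ := push (r ≫ a)
  obtain ⟨b', hb', hkb⟩ := push (r ≫ b)
  have e' : P.obj.map a'.op τ₁ = P.obj.map b'.op τ₂ := by
    refine sect_eq w α u hU sq V hV _ _ ?_
    refine (NatTrans.naturality_apply π₁.hom a'.op τ₁).trans (Eq.trans ?_ (NatTrans.naturality_apply π₁.hom b'.op τ₂).symm)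
    change A.obj.map ((EtCoh.bc f).map a').op _ = A.obj.map ((EtCoh.bc f).map b').op _
    rw [hka, hkb]
    refine (Eff.map_map' A k (r ≫ a) _).symm.trans (Eq.trans (congrArg (A.obj.map k.op) ?_) (Eff.map_map' A k (r ≫ b) _))
    exact (Eff.map_map' A r a _).symm.trans ((congrArg (A.obj.map r.op) hab).trans (Eff.map_map' A r b _))
  let s : Pt (ξ ≫ f) V := mkPt _ (hom ξ t₀ ≫ eqToHom e.symm) (by
    change (hom ξ t₀ ≫ eqToHom e.symm) ≫ V.hom = ξ ≫ f
    rw [hVh, Category.assoc, eqToHom_trans_assoc, eqToHom_refl, Category.id_comp, ← Category.assoc]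
    exact congrArg (· ≫ f) (Over.w t₀))
  have push_pt : ∀ {U₁ : X.Etale} (t₁ : Pt (ξ ≫ f) U₁) (c : W ⟶ (EtCoh.bc f).obj U₁) (c' : V ⟶ U₁),
      c'.left = eqToHom e ≫ (r ≫ c).left ≫ pullback.fst U₁.hom f →
      (Scheme.pointSmallEtale ξ).fiber.map c t = ptUp f ξ t₁ →
      (Scheme.pointSmallEtale (ξ ≫ f)).fiber.map c' s = t₁ := fun {U₁} t₁ c c' hc hct => by
    refine hom_ext (ξ ≫ f) ?_
    change (hom ξ t₀ ≫ eqToHom e.symm) ≫ c'.left = hom (ξ ≫ f) t₁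
    rw [hc, Category.assoc, eqToHom_trans_assoc, eqToHom_refl, Category.id_comp]
    have h1 : hom ξ t₀ ≫ (r ≫ c).left = hom ξ (ptUp f ξ t₁) :=
      (Category.assoc _ _ _).symm.trans (((congrArg (· ≫ c.left) (congrArg (fun q => hom ξ q) ht₀)).trans
        (congrArg (fun q => hom ξ q) hct)))
    exact (Category.assoc _ _ _).symm.trans ((congrArg (· ≫ pullback.fst U₁.hom f) h1).trans (pullback.lift_fst _ _ _))
  rw [← push_pt t₁ a a' ha' ha, ← push_pt t₂ b b' hb' hb, ← gs_map, ← gs_map, e']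

end Sq

end Groth.Agent.Unr55.Modif
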